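import Mathlib
import Groth.Agent.BlowUpEC.Flat
import Groth.Agent.Flat.FlatAt

/-! Injective multiplications with flat cokernels stay injective after base change and localization. -/

set_option autoImplicit false
set_option backward.isDefEq.respectTransparency false
noncomputable section
universe u
open scoped TensorProduct

namespace Groth.Agent.UnivRestr

theorem injective_localization_tensor {R A R' K F Q : Type u} [CommRing R] [CommRing A] [CommRing R'] [CommRing K]
    [Algebra R A] [Algebra R R'] [Algebra A K]
    [AddCommGroup F] [Module A F] [Module R F] [IsScalarTower R A F]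
    [AddCommGroup Q] [Module R Q] [Module.Flat R Q]
    (a : A) (hinj : ∀ m : F, a • m = 0 → m = 0) (π : F →ₗ[R] Q) (hπ : Function.Surjective π)
    (hex : Function.Exact ((Algebra.lsmul R R F a)) π)
    (φ : A ⊗[R] R' →+* K) (hl : ∀ c, φ (c ⊗ₜ 1) = algebraMap A K c)
    (P : Ideal (A ⊗[R] R')) [P.IsPrime] (hK : @IsLocalization.AtPrime _ _ K _ φ.toAlgebra P _) :
    ∀ z : K ⊗[A] F, a • z = 0 → z = 0 := by
  let B := A ⊗[R] R'
  letI : Algebra B K := φ.toAlgebra
  haveI : IsScalarTower A B K := IsScalarTower.of_algebraMap_eq fun c => (hl c).symm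
  haveI : IsLocalization.AtPrime K P := hK
  haveI : Module.Flat B K := IsLocalization.flat K P.primeCompl
  have h1 : Function.Injective ((Algebra.lsmul R R F a).rTensor R') :=
    ((Algebra.lsmul R R F a).lTensor_inj_iff_rTensor_inj R').mp
      (BlowUpEC.lTensor_injective_of_flat_coker (N := R') (Algebra.lsmul R R F a) π
        (fun x y h => sub_eq_zero.mp (hinj _ (by rw [smul_sub]; exact sub_eq_zero.mpr h))) hex hπ)
  have h2 : ∀ w : F ⊗[R] R', a • w = 0 → w = 0 := by
    intro w hw
    have : ∀ v : F ⊗[R] R', (Algebra.lsmul R R F a).rTensor R' v = a • v := fun v => by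
      induction v using TensorProduct.induction_on with
      | zero => simp
      | tmul m r => simp [TensorProduct.smul_tmul']
      | add x y hx hy => rw [map_add, hx, hy, smul_add]
    exact h1 ((this w).trans (hw.trans (map_zero _).symm))
  let e₁ : B ⊗[A] F ≃ₗ[A] F ⊗[R] R' :=
    TensorProduct.comm A B F ≪≫ₗ TensorProduct.AlgebraTensorModule.cancelBaseChange R A A F R'
  let m : B ⊗[A] F →ₗ[B] B ⊗[A] F := Algebra.lsmul B B (B ⊗[A] F) (algebraMap A B a)
  have hm : Function.Injective m := fun x y h => sub_eq_zero.mp (e₁.injective (by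
    rw [map_zero]
    refine h2 _ ?_
    rw [← map_smul, smul_sub, ← algebraMap_smul B a x, ← algebraMap_smul B a y]
    show e₁ (m x - m y) = 0
    rw [h, sub_self, map_zero]))
  have h3 := Module.Flat.lTensor_preserves_injective_linearMap (M := K) m hm
  let e₂ := TensorProduct.AlgebraTensorModule.cancelBaseChange A B K K F
  intro z hz
  obtain ⟨w, rfl⟩ := e₂.surjective z
  have h4 : ∀ v : K ⊗[B] (B ⊗[A] F), m.lTensor K v = algebraMap A K a • v := fun v => by
    induction v using TensorProduct.induction_on with
    | zero => simp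
    | tmul k x =>
      rw [LinearMap.lTensor_tmul]
      show k ⊗ₜ (algebraMap A B a • x) = _
      rw [← TensorProduct.smul_tmul, TensorProduct.smul_tmul', ← algebraMap_smul K (algebraMap A B a) k,
        ← IsScalarTower.algebraMap_apply]
    | add x y hx hy => rw [map_add, hx, hy, smul_add]
  rw [← algebraMap_smul K a (e₂ w), ← map_smul, map_eq_zero_iff _ e₂.injective, ← h4] at hz
  rw [h3 (hz.trans (map_zero _).symm), map_zero]

/-- the elements of an ideal, given finitely many generators without common zero on a module -/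
theorem exists_regular_in_ideal {C O N : Type u} [CommRing C] [CommRing O] [IsNoetherianRing O] [Algebra C O]
    [AddCommGroup N] [Module O N] [Module.Finite O N] (J : Ideal C)
    (hJ : ∀ m : N, (∀ b ∈ J, algebraMap C O b • m = 0) → m = 0) :
    ∃ a ∈ J, ∀ m : N, algebraMap C O a • m = 0 → m = 0 := by
  classical
  let Ps := (associatedPrimes.finite O N).toFinset
  by_contra hne
  push Not at hne
  have hsub : (J : Set C) ⊆ ⋃ P ∈ (↑Ps : Set (Ideal O)), (P.comap (algebraMap C O) : Set C) := by
    intro a ha
    obtain ⟨m, hm, hm0⟩ := hne a ha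
    have : algebraMap C O a ∈ ⋃ p ∈ associatedPrimes O N, (p : Set O) := by
      rw [biUnion_associatedPrimes_eq_zero_divisors]
      exact ⟨m, hm0, hm⟩
    simp only [Set.mem_iUnion] at this
    obtain ⟨P, hP, haP⟩ := this
    simp only [Set.mem_iUnion]
    exact ⟨P, (Set.Finite.mem_toFinset _).mpr hP, haP⟩
  obtain ⟨P, hP, hJP⟩ := (Ideal.subset_union_prime (f := fun P : Ideal O => P.comap (algebraMap C O)) ⊥ ⊥
    fun P hP _ _ => by
      haveI := IsAssociatedPrime.isPrime ((Set.Finite.mem_toFinset _).mp hP)
      exact Ideal.comap_isPrime _ P).mp hsub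
  obtain ⟨hp, m, hm⟩ := isAssociatedPrime_iff.mp ((Set.Finite.mem_toFinset _).mp hP)
  have : m = 0 := hJ m fun b hb => by
    have hbP : algebraMap C O b ∈ P := hJP hb
    rw [hm, Submodule.mem_colon_singleton, Submodule.mem_bot] at hbP
    exact hbP
  apply hp.ne_top
  rw [hm, Ideal.eq_top_iff_one, Submodule.mem_colon_singleton, Submodule.mem_bot, one_smul, this]

end Groth.Agent.UnivRestr
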