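import Mathlib
import Groth.Agent.UnivRestr.Alg
import Groth.Agent.Flat.FibreRegular
import Groth.Agent.FibreDepth.Chart
import Groth.Agent.FibreDepth.FlatLocusModule
import Groth.Agent.ModStalk.PullbackBC

/-! An element regular on the fibre stalk of a flat module is regular with flat cokernel on the stalk. -/

set_option autoImplicit false
set_option backward.isDefEq.respectTransparency false
set_option linter.style.haveILetI false
noncomputable section
universe u
open CategoryTheory CategoryTheory.Limits AlgebraicGeometry TopologicalSpace IsLocalRing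
open scoped TensorProduct

namespace Groth.Agent.UnivRestr

open FibreDepth

/-- regularity on the fibre of a localised module, written with residue fields -/
theorem reg_residue {R C A M L : Type u} [CommRing R] [CommRing C] [CommRing A] [Algebra R C] [Algebra C A] [Algebra R A]
    [IsScalarTower R C A] [AddCommGroup M] [Module R M] [Module C M] [IsScalarTower R C M]
    [AddCommGroup L] [Module R L] [Module C L] [Module A L] [IsScalarTower R C L] [IsScalarTower C A L] [IsScalarTower R A L]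
    (q : Ideal C) [q.IsPrime] (hA : ∀ c ∉ q, IsUnit (algebraMap C A c))
    (ℓ : M →ₗ[C] L) [IsLocalizedModule q.primeCompl ℓ] (a : C)
    (hreg : ∀ m : L, a • m ∈ ((q.comap (algebraMap R C)).map (algebraMap R A)) • (⊤ : Submodule A L) →
      m ∈ ((q.comap (algebraMap R C)).map (algebraMap R A)) • (⊤ : Submodule A L)) :
    ∀ y : M ⊗[R] (q.comap (algebraMap R C)).ResidueField, a • y = 0 → ∃ s, s ∉ q ∧ s • y = 0 := by
  let p := q.comap (algebraMap R C)
  let κ := p.ResidueField
  let I : Ideal A := p.map (algebraMap R A)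
  let j : L →ₗ[A] L ⊗[R] κ := (TensorProduct.AlgebraTensorModule.mk R A L κ).flip 1
  have hu : ∀ r ∉ p, IsUnit (algebraMap R A r) := fun r hr => by
    rw [IsScalarTower.algebraMap_apply R C A]
    exact hA _ hr
  have hkill : I ≤ Module.annihilator A (L ⊗[R] κ) := by
    refine Ideal.map_le_iff_le_comap.mpr fun r hr => ?_
    rw [Ideal.mem_comap, Module.mem_annihilator]
    intro z
    rw [algebraMap_smul]
    induction z using TensorProduct.induction_on with
    | zero => rw [smul_zero]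
    | tmul m k =>
      rw [← TensorProduct.tmul_smul, Algebra.smul_def, Ideal.algebraMap_residueField_eq_zero.mpr hr, zero_mul,
        TensorProduct.tmul_zero]
    | add x y hx hy => rw [smul_add, hx, hy, add_zero]
  have hj1 : I • (⊤ : Submodule A L) ≤ LinearMap.ker j := Submodule.smul_le.mpr fun i hi m _ => by
    rw [LinearMap.mem_ker, map_smul]
    exact Module.mem_annihilator.mp (hkill hi) _
  -- the action of the residue field on the fibre
  let τ₀ : R ⧸ p →+* A ⧸ I := Ideal.quotientMap I (algebraMap R A) Ideal.le_comap_map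
  have hτ : ∀ t : nonZeroDivisors (R ⧸ p), IsUnit (τ₀ t) := by
    rintro ⟨t, ht⟩
    obtain ⟨t, rfl⟩ := Ideal.Quotient.mk_surjective t
    exact (hu t fun h => nonZeroDivisors.ne_zero ht (Ideal.Quotient.eq_zero_iff_mem.mpr h)).map (Ideal.Quotient.mk I)
  let τ : κ →+* A ⧸ I := IsLocalization.lift hτ
  have hτR : ∀ r : R, τ (algebraMap R κ r) = Ideal.Quotient.mk I (algebraMap R A r) := fun r => by
    rw [IsScalarTower.algebraMap_apply R (R ⧸ p) κ, IsLocalization.lift_eq]
    rfl
  let Q := L ⧸ (I • ⊤ : Submodule A L)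
  let ψ : L ⊗[R] κ →+ Q :=
    TensorProduct.liftAddHom
      (AddMonoidHom.mk' (fun m => AddMonoidHom.mk' (fun k => τ k • (Submodule.Quotient.mk m : Q))
          fun k k' => by rw [map_add, add_smul])
        fun m m' => AddMonoidHom.ext fun k => by
          show τ k • (Submodule.Quotient.mk (m + m') : Q) = τ k • Submodule.Quotient.mk m + τ k • Submodule.Quotient.mk m'
          rw [Submodule.Quotient.mk_add, smul_add])
      fun r m k => by
        show τ k • (Submodule.Quotient.mk (r • m) : Q) = τ (r • k) • Submodule.Quotient.mk m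
        rw [Algebra.smul_def r k, map_mul, hτR, mul_smul, ← algebraMap_smul A r m, Submodule.Quotient.mk_smul,
          smul_comm]
        rfl
  have hψ : ∀ m, ψ (j m) = Submodule.Quotient.mk m := fun m => by
    show τ 1 • (Submodule.Quotient.mk m : Q) = _
    rw [map_one, one_smul]
  have hsurj : Function.Surjective j := by
    intro z
    induction z using TensorProduct.induction_on with
    | zero => exact ⟨0, map_zero _⟩
    | add x y hx hy =>
      obtain ⟨x', rfl⟩ := hx
      obtain ⟨y', rfl⟩ := hy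
      exact ⟨x' + y', map_add _ _ _⟩
    | tmul m k =>
      obtain ⟨b, t, ht, htk⟩ := Flat.FibreRegular.exists_smul_eq_algebraMap p k
      obtain ⟨u, hut⟩ := hu t ht
      refine ⟨((↑u⁻¹ : A) * algebraMap R A b) • m, ?_⟩
      have h1 : algebraMap R A b • j m = algebraMap R A t • (m ⊗ₜ[R] k) := by
        show algebraMap R A b • (m ⊗ₜ[R] (1 : κ)) = _
        rw [algebraMap_smul, algebraMap_smul, ← TensorProduct.tmul_smul, ← TensorProduct.tmul_smul,
          Algebra.smul_def t k, htk, ← Algebra.algebraMap_eq_smul_one]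
      rw [map_smul, mul_smul, h1, ← mul_smul, ← hut, Units.inv_mul, one_smul]
  let r := TensorProduct.AlgebraTensorModule.rTensor R κ ℓ
  intro y hy
  have h0 : r y = 0 := by
    obtain ⟨m, hm⟩ := hsurj (r y)
    have h1 : j (a • m) = 0 := by
      rw [← algebraMap_smul A a m, map_smul, hm, algebraMap_smul, ← map_smul, hy, map_zero]
    have h2 : a • m ∈ I • (⊤ : Submodule A L) := by
      rw [← Submodule.Quotient.mk_eq_zero, ← hψ, h1, map_zero]
    rw [← hm]
    exact hj1 (hreg m h2)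
  obtain ⟨s, hs⟩ := (IsLocalizedModule.eq_zero_iff q.primeCompl r).mp h0
  exact ⟨s, s.2, hs⟩

variable {X Y : Scheme.{u}} (f : X ⟶ Y) (F : X.Modules)
variable {U₀ : Y.Opens} (hU₀ : IsAffineOpen U₀) {V : X.Opens} (hV : IsAffineOpen V) (hVU : V ≤ f ⁻¹ᵁ U₀)

include hU₀ hV hVU in
set_option maxHeartbeats 1000000 in
theorem regular_and_flat_coker [LocallyOfFinitePresentation f] [F.IsQuasicoherent] [Module.FinitePresentation Γ(X, V) Γ(F, V)]
    (x : X) (hx : x ∈ V) (hflat : FlatMod.IsFlatOverAt f F x) (a : Γ(X, V))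
    (ha : a ∈ (hV.primeIdealOf ⟨x, hx⟩).asIdeal)
    (hreg : ∀ m : F.presheaf.stalk x, X.presheaf.germ V x hx a • m ∈
        (maximalIdeal (Y.presheaf.stalk (f x))).map (f.stalkMap x).hom • (⊤ : Submodule (X.presheaf.stalk x) (F.presheaf.stalk x)) →
      m ∈ (maximalIdeal (Y.presheaf.stalk (f x))).map (f.stalkMap x).hom • (⊤ : Submodule (X.presheaf.stalk x) (F.presheaf.stalk x))) :
    (∀ m : F.presheaf.stalk x, X.presheaf.germ V x hx a • m = 0 → m = 0) ∧
    ∀ {X' Y' : Scheme.{u}} {g : Y' ⟶ Y} {f' : X' ⟶ Y'} {g' : X' ⟶ X} (_ : IsPullback g' f' f g) (x' : X')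
      (hx' : g' x' = x) (v : ((Scheme.Modules.pullback g').obj F).presheaf.stalk x'),
      X'.presheaf.germ (g' ⁻¹ᵁ V) x' (show g' x' ∈ V from hx' ▸ hx) (g'.app V a) • v = 0 → v = 0 := by
  letI : Algebra Γ(Y, U₀) Γ(X, V) := (f.appLE U₀ V hVU).hom.toAlgebra
  haveI : Algebra.FinitePresentation Γ(Y, U₀) Γ(X, V) := f.finitePresentation_appLE hU₀ hV hVU
  letI : Module Γ(Y, U₀) Γ(F, V) := Module.compHom _ (algebraMap Γ(Y, U₀) Γ(X, V))
  haveI : IsScalarTower Γ(Y, U₀) Γ(X, V) Γ(F, V) := IsScalarTower.of_algebraMap_smul fun _ _ => rfl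
  let q := hV.primeIdealOf ⟨x, hx⟩
  let A := X.presheaf.stalk x
  let L := F.presheaf.stalk x
  letI := TopCat.Presheaf.algebra_section_stalk X.presheaf (⟨x, hx⟩ : V)
  haveI : IsLocalization.AtPrime A q.asIdeal := hV.isLocalization_stalk ⟨x, hx⟩
  letI := ModStalk.sectionModule F (⟨x, hx⟩ : V)
  haveI := ModStalk.sectionTower F (⟨x, hx⟩ : V)
  let ℓ := ModStalk.germₗ F (⟨x, hx⟩ : V)
  haveI : IsLocalizedModule q.asIdeal.primeCompl ℓ := ModStalk.isLocalizedModule_germ hV F (⟨x, hx⟩ : V)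
  letI : Algebra Γ(Y, U₀) A := (Y.presheaf.germ U₀ (f x) (hVU hx) ≫ f.stalkMap x).hom.toAlgebra
  haveI : IsScalarTower Γ(Y, U₀) Γ(X, V) A := IsScalarTower.of_algebraMap_eq fun c =>
    Chart.stalkMap_germ f hVU rfl x hx c
  letI : Module Γ(Y, U₀) L := Module.compHom _ (algebraMap Γ(Y, U₀) A)
  haveI : IsScalarTower Γ(Y, U₀) A L := IsScalarTower.of_algebraMap_smul fun _ _ => rfl
  haveI : IsScalarTower Γ(Y, U₀) Γ(X, V) L := IsScalarTower.of_algebraMap_smul fun c m => by
    rw [← algebraMap_smul A (algebraMap Γ(Y, U₀) Γ(X, V) c) m, ← IsScalarTower.algebraMap_apply, algebraMap_smul]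
  have hR : Flat.FlatAt.FlatAt Γ(Y, U₀) Γ(F, V) q.asIdeal :=
    (FlatLocusModule.flatAt_iff f F hU₀ hV hVU rfl x hx).mp hflat
  have hI : ((q.asIdeal.comap (algebraMap Γ(Y, U₀) Γ(X, V))).map (algebraMap Γ(Y, U₀) A)) =
      (maximalIdeal (Y.presheaf.stalk (f x))).map (f.stalkMap x).hom := by
    refine Eq.trans ?_ (Chart.fibre_ideal_eq f hU₀ hV hVU rfl x hx).symm
    rw [IsScalarTower.algebraMap_eq Γ(Y, U₀) Γ(X, V) A]
    rfl
  obtain ⟨h1, h2⟩ := Flat.FibreRegular.injective_and_flatAt_quotient (R := Γ(Y, U₀)) (M := Γ(F, V)) q.asIdeal a ha hR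
    (reg_residue (A := A) q.asIdeal (fun c hc => IsLocalization.map_units A (⟨c, hc⟩ : q.asIdeal.primeCompl)) ℓ a
      (by
        intro m hm
        rw [hI] at hm ⊢
        exact hreg m (by rwa [← algebraMap_smul A a m] at hm)))
  have hinj : ∀ m : L, algebraMap Γ(X, V) A a • m = 0 → m = 0 := by
    intro m hm
    rw [algebraMap_smul] at hm
    obtain ⟨⟨v, s⟩, hs⟩ := IsLocalizedModule.surj q.asIdeal.primeCompl ℓ m
    have h0 : ℓ (a • v) = 0 := by rw [map_smul, ← hs, smul_comm, hm, smul_zero]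
    obtain ⟨t, ht⟩ := (IsLocalizedModule.eq_zero_iff q.asIdeal.primeCompl ℓ).mp h0
    rw [Submonoid.smul_def, smul_comm] at ht
    obtain ⟨s', hs', hs0⟩ := h1 _ ht
    have hv0 : ℓ v = 0 := (IsLocalizedModule.eq_zero_iff q.asIdeal.primeCompl ℓ).mpr
      ⟨⟨s' * t, q.asIdeal.primeCompl.mul_mem hs' t.2⟩, by rw [Submonoid.smul_def, mul_smul]; exact hs0⟩
    refine ((Module.End.isUnit_iff _).mp (IsLocalizedModule.map_units ℓ s)).injective ?_
    rw [map_zero, ← hv0, ← hs]
    rfl
  refine ⟨hinj, ?_⟩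
  intro X' Y' g f' g' h x' hx' v hv
  subst hx'
  let N := (Ideal.span {a} • ⊤ : Submodule Γ(X, V) Γ(F, V))
  let μ : Γ(F, V) →ₗ[Γ(X, V)] Γ(F, V) := Algebra.lsmul Γ(X, V) Γ(X, V) Γ(F, V) a
  have hex₀ : Function.Exact μ N.mkQ := by
    rw [LinearMap.exact_iff, Submodule.ker_mkQ]
    ext z
    show z ∈ (Ideal.span {a} • ⊤ : Submodule Γ(X, V) Γ(F, V)) ↔ _
    rw [Submodule.ideal_span_singleton_smul, LinearMap.mem_range]
    simp [Submodule.mem_smul_pointwise_iff_exists, μ]
  let ℓ' := LocalizedModule.mkLinearMap q.asIdeal.primeCompl (Γ(F, V) ⧸ N)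
  haveI : Module.Flat Γ(Y, U₀) (LocalizedModule q.asIdeal.primeCompl (Γ(F, V) ⧸ N)) :=
    (Flat.FlatAt.flatAt_iff q.asIdeal ℓ').mp h2
  let π := IsLocalizedModule.map q.asIdeal.primeCompl ℓ ℓ' N.mkQ
  have hμ : IsLocalizedModule.map q.asIdeal.primeCompl ℓ ℓ μ = Algebra.lsmul Γ(X, V) Γ(X, V) L a := by
    apply IsLocalizedModule.linearMap_ext q.asIdeal.primeCompl ℓ ℓ
    ext z
    show IsLocalizedModule.map q.asIdeal.primeCompl ℓ ℓ μ (ℓ z) = a • ℓ z
    rw [IsLocalizedModule.map_apply]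
    exact map_smul ℓ a z
  have hπex : Function.Exact (IsLocalizedModule.map q.asIdeal.primeCompl ℓ ℓ μ) π :=
    IsLocalizedModule.map_exact q.asIdeal.primeCompl ℓ ℓ ℓ' μ N.mkQ hex₀
  rw [hμ] at hπex
  have hπs : Function.Surjective π :=
    IsLocalizedModule.map_surjective q.asIdeal.primeCompl ℓ ℓ' N.mkQ N.mkQ_surjective
  have hsp : g (f' x') ∈ U₀ := by
    rw [← Scheme.Hom.comp_apply, ← h.w, Scheme.Hom.comp_apply]; exact hVU hx
  let R' := Y'.presheaf.stalk (f' x')
  letI : Algebra Γ(Y, U₀) R' := (Y.presheaf.germ U₀ (g (f' x')) hsp ≫ g.stalkMap (f' x')).hom.toAlgebra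
  obtain ⟨φ, hl, -, P, hP, hK⟩ := ModStalk.exists_localization_of_mono h x' Γ(Y, U₀) A R' hU₀.fromSpec
    (X.fromSpecStalk (g' x')) (Y'.fromSpecStalk (f' x'))
    (by
      rw [show CommRingCat.ofHom (algebraMap Γ(Y, U₀) A) = Y.presheaf.germ U₀ (f (g' x')) (hVU hx) ≫ f.stalkMap (g' x') from rfl,
        Spec.map_comp, Category.assoc,
        show Spec.map (Y.presheaf.germ U₀ (f (g' x')) (hVU hx)) ≫ hU₀.fromSpec = Y.fromSpecStalk _ from hU₀.fromSpecStalk_eq_fromSpecStalk (hVU hx)]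
      exact Scheme.SpecMap_stalkMap_fromSpecStalk f)
    (by
      rw [show CommRingCat.ofHom (algebraMap Γ(Y, U₀) R') = Y.presheaf.germ U₀ (g (f' x')) hsp ≫ g.stalkMap (f' x') from rfl,
        Spec.map_comp, Category.assoc,
        show Spec.map (Y.presheaf.germ U₀ (g (f' x')) hsp) ≫ hU₀.fromSpec = Y.fromSpecStalk _ from hU₀.fromSpecStalk_eq_fromSpecStalk hsp]
      exact Scheme.SpecMap_stalkMap_fromSpecStalk g)
    (g'.stalkMap x') (f'.stalkMap x') (Scheme.SpecMap_stalkMap_fromSpecStalk g') (Scheme.SpecMap_stalkMap_fromSpecStalk f')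
  letI := (g'.stalkMap x').hom.toAlgebra
  obtain ⟨e, -⟩ := ModStalk.exists_pullStalk_equiv g' F x'
  have hex : Function.Exact (Algebra.lsmul Γ(Y, U₀) Γ(Y, U₀) L (algebraMap Γ(X, V) A a)) (π.restrictScalars Γ(Y, U₀)) := by
    have heq : (⇑(Algebra.lsmul Γ(Y, U₀) Γ(Y, U₀) L (algebraMap Γ(X, V) A a))) = ⇑(Algebra.lsmul Γ(X, V) Γ(X, V) L a) :=
      funext fun m => algebraMap_smul A a m
    rw [heq]
    exact hπex
  have key := injective_localization_tensor (F := L) (algebraMap Γ(X, V) A a) hinj (π.restrictScalars Γ(Y, U₀)) hπs hex φ hl P hK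
  refine e.injective ?_
  rw [map_zero]
  refine key (e v) ?_
  rw [← algebraMap_smul (X'.presheaf.stalk x') (algebraMap Γ(X, V) A a) (e v)]
  refine Eq.trans ?_ ((congrArg e hv).trans (map_zero _))
  rw [map_smul]
  congr 1
  exact Scheme.Hom.germ_stalkMap_apply g' V x' hx a

end Groth.Agent.UnivRestr
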