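import Mathlib
import Groth.Agent.UnivRestr.Point
import Groth.Agent.FibreDepth.Fibre

/-! A flat module has universally injective restriction to an open iff it has so on every fibre. -/

set_option autoImplicit false
set_option backward.isDefEq.respectTransparency false
set_option linter.style.haveILetI false
noncomputable section
universe u
open CategoryTheory CategoryTheory.Limits AlgebraicGeometry TopologicalSpace IsLocalRing
open scoped TensorProduct

namespace Groth.Agent.UnivRestr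

open FibreDepth

theorem germ_eq_zero_of_unit {X : Scheme.{u}} (M : X.Modules) {U : X.Opens} (a : Γ(X, U)) (t : Γ(M, U))
    (h : a • t = 0) (y : X) (hy : y ∈ X.basicOpen a) : M.presheaf.germ U y (X.basicOpen_le a hy) t = 0 := by
  have h1 := congrArg (M.presheaf.germ U y (X.basicOpen_le a hy)) h
  rw [ModStalk.germ_smul, map_zero] at h1
  exact ((Scheme.mem_basicOpen _ _ _ (X.basicOpen_le a hy)).mp hy).smul_eq_zero.mp h1

variable {X Y : Scheme.{u}} (f : X ⟶ Y) [LocallyOfFinitePresentation f] (F : X.Modules) (hF : CohB1.IsFP F)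
  (U : X.Opens)

include hF in
set_option maxHeartbeats 1000000 in
theorem exists_regular (y : Y) (v : ↥(f.fiber y))
    (hinj : ∀ W : (↑(f.fiber y) : Scheme.{u}).Opens,
      Function.Injective (((Scheme.Modules.pullback (f.fiberι y)).obj F).presheaf.map
        (homOfLE (inf_le_left : W ⊓ (f.fiberι y) ⁻¹ᵁ U ≤ W)).op))
    {V : X.Opens} (hV : IsAffineOpen V) (hv : f.fiberι y v ∈ V) :
    ∃ a : Γ(X, V), X.basicOpen a ≤ U ∧ ∀ m : F.presheaf.stalk (f.fiberι y v),
      X.presheaf.germ V (f.fiberι y v) hv a • m ∈ FibreStalk.idl f y v • (⊤ : Submodule (X.presheaf.stalk (f.fiberι y v)) _) →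
      m ∈ FibreStalk.idl f y v • (⊤ : Submodule (X.presheaf.stalk (f.fiberι y v)) _) := by
  haveI := Sections.isQuasicoherent_of_isFP F hF
  let ι := f.fiberι y
  let G := (Scheme.Modules.pullback ι).obj F
  haveI : G.IsQuasicoherent := ModStalk.isQuasicoherent_pullback ι F
  haveI := Fibre.isLocallyNoetherian_fiber f y
  haveI := Fibre.noeth f y v
  haveI : Module.Finite ((f.fiber y).presheaf.stalk v) (G.presheaf.stalk v) := Fibre.finite_fib f hF y v
  obtain ⟨W₀, hW₀, hvW₀, hW₀V⟩ :=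
    exists_isAffineOpen_mem_and_subset (X := f.fiber y) (U := ι ⁻¹ᵁ V) (x := v) hv
  haveI := IsLocallyNoetherian.component_noetherian ⟨W₀, hW₀⟩
  haveI : NoetherianSpace (W₀ : Scheme.{u}) := noetherianSpace_of_isAffineOpen W₀ hW₀
  have hcpt : IsCompact (ι '' ((W₀ : Set ↥(f.fiber y)) ∩ ι ⁻¹' (U : Set X))) := by
    refine IsCompact.image ?_ ι.continuous
    have h1 : ((W₀ : Set ↥(f.fiber y)) ∩ ι ⁻¹' (U : Set X)) =
        W₀.ι '' ((fun w : ↥(W₀ : Scheme.{u}) => ι (W₀.ι w)) ⁻¹' (U : Set X)) := by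
      rw [show (fun w : ↥(W₀ : Scheme.{u}) => ι (W₀.ι w)) = ι ∘ W₀.ι from rfl, Set.preimage_comp,
        Set.image_preimage_eq_inter_range, Scheme.Opens.range_ι, Set.inter_comm]
    rw [h1]
    exact (NoetherianSpace.isCompact _).image W₀.ι.continuous
  have hcov : ι '' ((W₀ : Set ↥(f.fiber y)) ∩ ι ⁻¹' (U : Set X)) ⊆
      ⋃ b : {b : Γ(X, V) // X.basicOpen b ≤ U}, (X.basicOpen b.1 : Set X) := by
    rintro _ ⟨w, ⟨hw, hwU⟩, rfl⟩
    obtain ⟨b, hb, hwb⟩ := hV.exists_basicOpen_le (V := U ⊓ V) ⟨ι w, ⟨hwU, hW₀V hw⟩⟩ (hW₀V hw)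
    exact Set.mem_iUnion.mpr ⟨⟨b, hb.trans inf_le_left⟩, hwb⟩
  obtain ⟨T, hT⟩ := hcpt.elim_finite_subcover _ (fun b : {b : Γ(X, V) // X.basicOpen b ≤ U} => (X.basicOpen b.1).isOpen) hcov
  let J : Ideal Γ(X, V) := Ideal.span ((fun b : {b : Γ(X, V) // X.basicOpen b ≤ U} => b.1) '' T)
  letI : Algebra Γ(X, V) ((f.fiber y).presheaf.stalk v) := (X.presheaf.germ V (ι v) hv ≫ ι.stalkMap v).hom.toAlgebra
  obtain ⟨a, haJ, ha⟩ := exists_regular_in_ideal (O := (f.fiber y).presheaf.stalk v) (N := G.presheaf.stalk v) J (by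
    intro m hm
    obtain ⟨c, t, hvc, hct⟩ := ModStalk.exists_smul_eq_germ G hW₀ v hvW₀ m
    have hkill : ∀ b ∈ T, ∃ d : Γ(f.fiber y, W₀), v ∈ (f.fiber y).basicOpen d ∧ d • (ι.appLE V W₀ hW₀V b.1 • t) = 0 := by
      intro b hb
      refine ModStalk.exists_smul_eq_zero_of_germ G hW₀ v hvW₀ _ ?_
      rw [ModStalk.germ_smul, ← hct, ← mul_smul, mul_comm, mul_smul]
      have h0 := hm b.1 (Ideal.subset_span ⟨b, hb, rfl⟩)
      have he : (f.fiber y).presheaf.germ W₀ v hvW₀ (ι.appLE V W₀ hW₀V b.1) =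
          algebraMap Γ(X, V) ((f.fiber y).presheaf.stalk v) b.1 := by
        show _ = ι.stalkMap v (X.presheaf.germ V (ι v) hv b.1)
        rw [Scheme.Hom.germ_stalkMap_apply]
        exact TopCat.Presheaf.germ_res_apply _ (homOfLE hW₀V) v hvW₀ _
      rw [he, h0, smul_zero]
    choose d hd hd0 using hkill
    let dd : Γ(f.fiber y, W₀) := ∏ b : T, d b.1 b.2
    have hdd : v ∈ (f.fiber y).basicOpen dd := by
      rw [Scheme.mem_basicOpen _ _ _ hvW₀, map_prod, IsUnit.prod_univ_iff]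
      exact fun b => (Scheme.mem_basicOpen _ _ _ hvW₀).mp (hd b.1 b.2)
    let D := (f.fiber y).basicOpen dd
    have hz : G.presheaf.map (homOfLE ((f.fiber y).basicOpen_le dd)).op t = 0 := by
      apply hinj D
      rw [map_zero]
      refine ModStalk.eq_of_germ_eq _ _ _ fun w hw => ?_
      rw [TopCat.Presheaf.germ_res_apply, TopCat.Presheaf.germ_res_apply, map_zero]
      have hwW : w ∈ W₀ := (f.fiber y).basicOpen_le dd hw.1
      obtain ⟨b, hb, hwb⟩ : ∃ b ∈ T, ι w ∈ X.basicOpen b.1 := by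
        simpa using hT ⟨w, ⟨hwW, hw.2⟩, rfl⟩
      have hu1 : IsUnit ((f.fiber y).presheaf.germ W₀ w hwW (d b hb)) := by
        have h := (Scheme.mem_basicOpen _ _ _ hwW).mp hw.1
        rw [map_prod, IsUnit.prod_univ_iff] at h
        exact h ⟨b, hb⟩
      have hu2 : IsUnit ((f.fiber y).presheaf.germ W₀ w hwW (ι.appLE V W₀ hW₀V b.1)) := by
        have : (f.fiber y).presheaf.germ W₀ w hwW (ι.appLE V W₀ hW₀V b.1) =
            ι.stalkMap w (X.presheaf.germ V (ι w) (hW₀V hwW) b.1) := by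
          rw [Scheme.Hom.germ_stalkMap_apply]
          exact TopCat.Presheaf.germ_res_apply _ (homOfLE hW₀V) w hwW _
        rw [this]
        exact ((Scheme.mem_basicOpen _ _ _ (show ι w ∈ V from hW₀V hwW)).mp hwb).map _
      have h0 := congrArg (G.presheaf.germ W₀ w hwW) (hd0 b hb)
      rw [ModStalk.germ_smul, ModStalk.germ_smul, map_zero, hu1.smul_eq_zero, hu2.smul_eq_zero] at h0
      exact h0
    have ht : G.presheaf.germ W₀ v hvW₀ t = 0 := by
      have := congrArg (G.presheaf.germ D v hdd) hz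
      rwa [TopCat.Presheaf.germ_res_apply, map_zero] at this
    rw [ht] at hct
    exact ((Scheme.mem_basicOpen _ _ _ hvW₀).mp hvc).smul_eq_zero.mp hct)
  refine ⟨a, ?_, ?_⟩
  · intro w hw
    by_contra hwU
    have hwV := X.basicOpen_le a hw
    have hle : J ≤ (hV.primeIdealOf ⟨w, hwV⟩).asIdeal := Ideal.span_le.mpr fun _ ⟨b, _, hb⟩ => by
      subst hb
      by_contra hn
      exact hwU (b.2 ((ModStalk.germ_mem_primeIdeal_iff hV ⟨w, hwV⟩ b.1).mp hn))
    exact (ModStalk.germ_mem_primeIdeal_iff hV ⟨w, hwV⟩ a).mpr hw (hle haJ)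
  · intro m hm
    letI := (ι.stalkMap v).hom.toAlgebra
    obtain ⟨e, he⟩ := ModStalk.exists_pullStalk_equiv ι F v
    let A := X.presheaf.stalk (ι v)
    let L := F.presheaf.stalk (ι v)
    let I := FibreStalk.idl f y v
    let O := (f.fiber y).presheaf.stalk v
    have hker : RingHom.ker (Algebra.ofId A O) = I := FibreStalk.ker_eq f y v
    let eO : (A ⧸ I) ≃ₗ[A] O := ((Ideal.quotientEquivAlgOfEq A hker.symm).trans
      (Ideal.quotientKerAlgEquivOfSurjective (f := Algebra.ofId A O) (FibreStalk.surjective f y v))).toLinearEquiv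
    let E : (L ⧸ I • (⊤ : Submodule A L)) ≃ₗ[A] O ⊗[A] L :=
      (TensorProduct.quotTensorEquivQuotSMul L I).symm ≪≫ₗ TensorProduct.congr eO (LinearEquiv.refl A L)
    have hE : ∀ z : L, E (Submodule.Quotient.mk z) = 1 ⊗ₜ z := fun z => by
      show TensorProduct.congr eO (LinearEquiv.refl A L) ((TensorProduct.quotTensorEquivQuotSMul L I).symm (Submodule.Quotient.mk z)) = _
      rw [TensorProduct.quotTensorEquivQuotSMul_symm_mk, TensorProduct.congr_tmul]
      congr 1
      exact map_one ((Ideal.quotientEquivAlgOfEq A hker.symm).trans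
        (Ideal.quotientKerAlgEquivOfSurjective (f := Algebra.ofId A O) (FibreStalk.surjective f y v)))
    have h0 : algebraMap Γ(X, V) O a • ModStalk.pullGerm ι F v m = 0 := by
      show ι.stalkMap v (X.presheaf.germ V (ι v) hv a) • ModStalk.pullGerm ι F v m = 0
      rw [← ModStalk.pullGerm_smul]
      apply e.injective
      rw [he, map_zero, ← hE, (Submodule.Quotient.mk_eq_zero _).mpr hm, map_zero]
    have h1 := ha _ h0
    rw [← Submodule.Quotient.mk_eq_zero]
    apply E.injective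
    rw [hE, map_zero, ← he, h1, map_zero]

include hF in
theorem exists_regular_at
    (hfib : ∀ (s : Y) (V : (↑(f.fiber s) : Scheme.{u}).Opens),
      Function.Injective (((Scheme.Modules.pullback (f.fiberι s)).obj F).presheaf.map
        (homOfLE (inf_le_left : V ⊓ (f.fiberι s) ⁻¹ᵁ U ≤ V)).op))
    {V : X.Opens} (hV : IsAffineOpen V) (x : X) (hxV : x ∈ V) :
    ∃ a : Γ(X, V), X.basicOpen a ≤ U ∧ ∀ m : F.presheaf.stalk x,
      X.presheaf.germ V x hxV a • m ∈
          (maximalIdeal (Y.presheaf.stalk (f x))).map (f.stalkMap x).hom • (⊤ : Submodule (X.presheaf.stalk x) _) →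
        m ∈ (maximalIdeal (Y.presheaf.stalk (f x))).map (f.stalkMap x).hom • (⊤ : Submodule (X.presheaf.stalk x) _) := by
  have key : ∀ (y : Y) (v : ↥(f.fiber y)), f.fiberι y v = x →
      ∃ a : Γ(X, V), X.basicOpen a ≤ U ∧ ∀ m : F.presheaf.stalk x,
        X.presheaf.germ V x hxV a • m ∈
            (maximalIdeal (Y.presheaf.stalk (f x))).map (f.stalkMap x).hom • (⊤ : Submodule (X.presheaf.stalk x) _) →
          m ∈ (maximalIdeal (Y.presheaf.stalk (f x))).map (f.stalkMap x).hom • (⊤ : Submodule (X.presheaf.stalk x) _) := by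
    intro y v he
    subst he
    exact exists_regular f F hF U y v (hfib y) hV hxV
  exact key _ _ (f.fiberι_asFiber x)

include hF in
set_option maxHeartbeats 1000000 in
theorem restrict_injective (hflat : FlatMod.IsFlatOver f F)
    (hfib : ∀ (s : Y) (V : (↑(f.fiber s) : Scheme.{u}).Opens),
      Function.Injective (((Scheme.Modules.pullback (f.fiberι s)).obj F).presheaf.map
        (homOfLE (inf_le_left : V ⊓ (f.fiberι s) ⁻¹ᵁ U ≤ V)).op))
    (Y' : Scheme.{u}) (g : Y' ⟶ Y) (V' : (↑(pullback f g) : Scheme.{u}).Opens) :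
    Function.Injective (((Scheme.Modules.pullback (pullback.fst f g)).obj F).presheaf.map
      (homOfLE (inf_le_left : V' ⊓ (pullback.fst f g) ⁻¹ᵁ U ≤ V')).op) := by
  haveI := Sections.isQuasicoherent_of_isFP F hF
  let g' := pullback.fst f g
  let G := (Scheme.Modules.pullback g').obj F
  haveI : G.IsQuasicoherent := ModStalk.isQuasicoherent_pullback g' F
  rw [injective_iff_map_eq_zero]
  intro t ht
  refine ModStalk.eq_of_germ_eq _ _ _ fun x' hx' => ?_
  rw [map_zero]
  have hU0 : ∀ w (hw : w ∈ V') (_ : g' w ∈ U), G.presheaf.germ V' w hw t = 0 := fun w hw hwU => by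
    have := congrArg (G.presheaf.germ (V' ⊓ g' ⁻¹ᵁ U) w ⟨hw, hwU⟩) ht
    rwa [TopCat.Presheaf.germ_res_apply, map_zero] at this
  by_cases hxU : g' x' ∈ U
  · exact hU0 x' hx' hxU
  obtain ⟨O, hxO, hO⟩ := Sections.exists_affine F hF (g' x')
  obtain ⟨U₀, hU₀, hyU₀, -⟩ := exists_isAffineOpen_mem_and_subset (X := Y) (U := ⊤) (x := f (g' x')) trivial
  obtain ⟨V, hV, hxV, hVsub⟩ :=
    exists_isAffineOpen_mem_and_subset (X := X) (U := O ⊓ f ⁻¹ᵁ U₀) (x := g' x') ⟨hxO, hyU₀⟩
  haveI : Module.FinitePresentation Γ(X, V) Γ(F, V) := hO V hV fun w hw => (hVsub hw).1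
  let x := g' x'
  obtain ⟨a, haU, hreg⟩ := exists_regular_at f F hF U hfib hV x hxV
  have ha : a ∈ (hV.primeIdealOf ⟨x, hxV⟩).asIdeal := by
    by_contra hn
    exact hxU (haU ((ModStalk.germ_mem_primeIdeal_iff hV ⟨x, hxV⟩ a).mp hn))
  obtain ⟨-, hbc⟩ := regular_and_flat_coker f F hU₀ hV (fun w hw => (hVsub hw).2) x hxV (hflat x) a ha hreg
  have key := hbc (IsPullback.of_hasPullback f g) x' rfl
  obtain ⟨W, hW, hxW, hWsub⟩ :=
    exists_isAffineOpen_mem_and_subset (X := pullback f g) (U := V' ⊓ g' ⁻¹ᵁ V) (x := x') ⟨hx', hxV⟩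
  have hW1 : W ≤ V' := fun w hw => (hWsub hw).1
  have hW2 : W ≤ g' ⁻¹ᵁ V := fun w hw => (hWsub hw).2
  let a' := g'.appLE V W hW2 a
  let t' := G.presheaf.map (homOfLE hW1).op t
  have hD : G.presheaf.map (homOfLE ((pullback f g).basicOpen_le a')).op t' = 0 := by
    refine ModStalk.eq_of_germ_eq _ _ _ fun w hw => ?_
    have hwW : w ∈ W := (pullback f g).basicOpen_le a' hw
    rw [TopCat.Presheaf.germ_res_apply, TopCat.Presheaf.germ_res_apply, map_zero]
    refine hU0 w (hW1 hwW) (haU ?_)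
    have h1 := (Scheme.mem_basicOpen _ _ _ hwW).mp hw
    rw [Scheme.mem_basicOpen _ _ _ (show g' w ∈ V from hW2 hwW)]
    haveI : IsLocalHom (g'.stalkMap w).hom := inferInstance
    refine isUnit_of_map_unit (g'.stalkMap w).hom _ ?_
    have h2 : (pullback f g).presheaf.germ W w hwW a' = g'.stalkMap w (X.presheaf.germ V (g' w) (hW2 hwW) a) := by
      rw [Scheme.Hom.germ_stalkMap_apply]
      exact TopCat.Presheaf.germ_res_apply _ (homOfLE hW2) w hwW _
    rwa [h2] at h1
  obtain ⟨n, hn⟩ := ModStalk.exists_pow_smul_eq_zero G hW a' t' hD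
  have h3 := congrArg (G.presheaf.germ W x' hxW) hn
  rw [ModStalk.germ_smul, map_zero, map_pow, TopCat.Presheaf.germ_res_apply] at h3
  have h4 : (pullback f g).presheaf.germ W x' hxW a' =
      (pullback f g).presheaf.germ (g' ⁻¹ᵁ V) x' hxV (g'.app V a) :=
    TopCat.Presheaf.germ_res_apply _ (homOfLE hW2) x' hxW _
  rw [h4] at h3
  clear hn
  induction n with
  | zero => simpa using h3
  | succ k ih =>
    rw [pow_succ', mul_smul] at h3
    exact ih (key _ h3)

end Groth.Agent.UnivRestr
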